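import Groth.Agent.Lib.CI20.Seq
import Groth.Agent.Lib.GVanish.Main

/-!
# Cohomology of hypersurfaces given by their ideal module
-/

set_option autoImplicit false
set_option linter.style.haveILetI false
set_option maxHeartbeats 1000000
set_option backward.isDefEq.respectTransparency false

universe u

open CategoryTheory CategoryTheory.Limits AlgebraicGeometry TopologicalSpace Opposite
open GrothLib.Cohom (hhMap hhDelta)

noncomputable section

namespace GrothLib.CI20

section Linear

variable {k : Type u} [Field k] {A B C D E : Type u} [AddCommGroup A] [Module k A] [AddCommGroup B] [Module k B]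
  [AddCommGroup C] [Module k C] [AddCommGroup D] [Module k D] [AddCommGroup E] [Module k E]
  (f : A →ₗ[k] B) (g : B →ₗ[k] C)

theorem finrank_of_short (hf : Function.Injective f) (hfg : Function.Exact f g) (hg : Function.Surjective g)
    [Module.Finite k B] : Module.Finite k C ∧ Module.finrank k A + Module.finrank k C = Module.finrank k B := by
  refine ⟨Module.Finite.of_surjective g hg, ?_⟩
  have h := g.finrank_range_add_finrank_ker
  rw [LinearMap.range_eq_top.2 hg, finrank_top, hfg.linearMap_ker_eq, LinearMap.finrank_range_of_inj hf] at h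
  omega

theorem finrank_of_five (δ : C →ₗ[k] D) (h : D →ₗ[k] E) (hf : Function.Injective f) (hfg : Function.Exact f g)
    (hgδ : Function.Exact g δ) (hδh : Function.Exact δ h) (hh : Function.Surjective h)
    [Module.Finite k B] [Module.Finite k D] :
    Module.Finite k C ∧ Module.finrank k A + Module.finrank k C + Module.finrank k E =
      Module.finrank k B + Module.finrank k D := by
  haveI : Module.Finite k (LinearMap.ker δ) := by
    rw [hgδ.linearMap_ker_eq]; infer_instance
  haveI : Module.Finite k C := by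
    haveI : Module.Finite k (C ⧸ LinearMap.ker δ) := Module.Finite.equiv δ.quotKerEquivRange.symm
    exact Module.Finite.of_submodule_quotient (LinearMap.ker δ)
  refine ⟨inferInstance, ?_⟩
  have h1 := g.finrank_range_add_finrank_ker
  rw [hfg.linearMap_ker_eq, LinearMap.finrank_range_of_inj hf] at h1
  have h2 := δ.finrank_range_add_finrank_ker
  rw [hgδ.linearMap_ker_eq] at h2
  have h3 := h.finrank_range_add_finrank_ker
  rw [LinearMap.range_eq_top.2 hh, finrank_top, hδh.linearMap_ker_eq] at h3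
  omega

end Linear

variable {k : Type u} [Field k]

/-- The sections of `O(t)`. -/
theorem finrank_H0 (n : ℕ) (hn : 1 ≤ n) (t : ℤ) :
    Module.Finite k (Coh.HH (CohB1.ProjSpace n k) (Twist.twistProjSpace n k t) 0) ∧
      Module.finrank k (Coh.HH (CohB1.ProjSpace n k) (Twist.twistProjSpace n k t) 0) =
        Nat.choose (t + (n : ℤ)).toNat n := by
  rcases le_or_gt 0 t with ht | ht
  · lift t to ℕ using ht
    obtain ⟨e⟩ := ProjCohom.nonempty_HH_zero (n := n) (R := k) t
    haveI : Module.Finite k (MvPolynomial.homogeneousSubmodule (Fin (n + 1)) k t) :=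
      Module.finite_of_finrank_pos (by rw [ProjCohom.finrank_forms]; exact Nat.choose_pos (by omega))
    refine ⟨Module.Finite.equiv e.symm, ?_⟩
    rw [e.finrank_eq, ProjCohom.finrank_forms, show ((t : ℤ) + n).toNat = n + t by omega,
      ← Nat.choose_symm (Nat.le_add_left t n), Nat.add_sub_cancel]
  · haveI := ProjCohom.subsingleton_HH (n := n) (R := k) (d := t) (q := 0) (by omega) (by omega)
    refine ⟨inferInstance, ?_⟩
    rw [Module.finrank_zero_of_subsingleton, eq_comm, Nat.choose_eq_zero_iff]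
    omega

/-- The top cohomology of `O(t)`. -/
theorem finrank_Htop (n : ℕ) (hn : 1 ≤ n) (t : ℤ) :
    Module.Finite k (Coh.HH (CohB1.ProjSpace n k) (Twist.twistProjSpace n k t) n) ∧
      Module.finrank k (Coh.HH (CohB1.ProjSpace n k) (Twist.twistProjSpace n k t) n) =
        Nat.choose (-t - 1).toNat n := by
  rcases le_or_gt t (-((n : ℤ) + 1)) with ht | ht
  · obtain ⟨j, rfl⟩ : ∃ j : ℕ, t = -((n : ℤ) + 1 + j) := ⟨(-t - (n + 1)).toNat, by omega⟩
    obtain ⟨e⟩ := ProjCohom.nonempty_HH_top (n := n) (R := k) j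
    haveI : Module.Finite k (MvPolynomial.homogeneousSubmodule (Fin (n + 1)) k j) :=
      Module.finite_of_finrank_pos (by rw [ProjCohom.finrank_forms]; exact Nat.choose_pos (by omega))
    refine ⟨Module.Finite.equiv e.symm, ?_⟩
    rw [e.finrank_eq, ProjCohom.finrank_forms, show (- -((n : ℤ) + 1 + j) - 1).toNat = n + j by omega,
      ← Nat.choose_symm (Nat.le_add_left j n), Nat.add_sub_cancel]
  · haveI := ProjCohom.subsingleton_HH (n := n) (R := k) (d := t) (q := n) (by omega) (by omega)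
    refine ⟨inferInstance, ?_⟩
    rw [Module.finrank_zero_of_subsingleton, eq_comm, Nat.choose_eq_zero_iff]
    omega

variable {d : ℕ} (I : (CohB1.ProjSpace (d + 1) k).IdealSheafData) {m : ℕ}
  (eI : ClSub.idealMod I ≅ Twist.twistProjSpace (d + 1) k (-(m : ℤ)))

/-- A nonzero ideal cuts the dimension of projective space. -/
theorem dim_subscheme_le (hI : I ≠ ⊥) : topologicalKrullDim ↥I.subscheme ≤ (d : WithBot ℕ∞) := by
  haveI : IsIntegral (CohB1.ProjSpace (d + 1) k) := ProjDim.isIntegral_proj k (d + 1)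
  let Z : Set (ProjectiveSpectrum (CohB1.polyGrading (d + 1) k)) := SetLike.coe I.support
  have hZc : IsClosed Z := I.support.isClosed
  have hsub : topologicalKrullDim ↥I.subscheme ≤
      topologicalKrullDim ↥Z :=
    (I.subschemeι.isClosedEmbedding.isEmbedding.toHomeomorph.trans
      (Homeomorph.setCongr I.range_subschemeι)).isEmbedding.isInducing.topologicalKrullDim_le
  refine hsub.trans ?_
  by_contra hlt
  obtain ⟨x, hx, hxd⟩ := ProjDim.exists_point_le_dim
    (S := Z) hZc
    (by
      by_contra hne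
      rw [Set.not_nonempty_iff_eq_empty] at hne
      refine hlt (le_trans (le_of_eq ?_) bot_le)
      haveI : IsEmpty (IrreducibleCloseds ↥Z) :=
        ⟨fun Z => Z.2.1.elim fun y _ => by simpa [hne] using y.2⟩
      exact Order.krullDim_eq_bot)
    (d + 1) (by
      revert hlt
      generalize topologicalKrullDim ↥Z = D
      intro hlt
      rw [not_le] at hlt
      cases D with
      | bot => exact absurd hlt not_lt_bot
      | coe v =>
        cases v with
        | top => exact le_top
        | coe v => exact_mod_cast (show d + 1 ≤ v by exact_mod_cast hlt))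
  by_cases hb : x = ProjDim.botPt
  · subst hb
    refine hI (Scheme.IdealSheafData.support_eq_top_iff.1 (TopologicalSpace.Closeds.ext (Set.eq_univ_of_forall
      fun y => (hZc.closure_subset_iff.2 (Set.singleton_subset_iff.2 hx))
        (specializes_iff_mem_closure.1 (ProjDim.specializes_botPt k (d + 1) y)))))
  have h1 : ((ProjDim.botPt : ProjectiveSpectrum (CohB1.polyGrading (d + 1) k)).asHomogeneousIdeal.toIdeal) <
      x.asHomogeneousIdeal.toIdeal :=
    lt_of_le_of_ne (show (⊥ : Ideal _) ≤ _ from bot_le) fun e => hb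
      (ProjectiveSpectrum.ext (HomogeneousIdeal.toIdeal_injective e.symm))
  have h2 := ProjDim.dim_add_one_le_of_lt h1
  rw [← ProjDim.dim_closure_add_one, ← ProjDim.dim_closure_add_one, ProjDim.dim_closure_botPt] at h2
  have h3 : ((d + 1 : ℕ) : WithBot ℕ∞) + 1 + 1 ≤ ((d + 1 : ℕ) : WithBot ℕ∞) + 1 :=
    le_trans (add_le_add (add_le_add hxd le_rfl) le_rfl) h2
  exact absurd (show d + 1 + 1 + 1 ≤ d + 1 + 1 by exact_mod_cast h3) (by omega)

include eI in
theorem ne_bot : I ≠ ⊥ := fun h => by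
  subst h
  haveI : IsIso (ClSub.toSubscheme (⊥ : (CohB1.ProjSpace (d + 1) k).IdealSheafData)) := by
    rw [Scheme.Modules.Hom.isIso_iff_isIso_app]
    intro U
    rw [ConcreteCategory.isIso_iff_bijective]
    exact ConcreteCategory.bijective_of_isIso ((⊥ : (CohB1.ProjSpace (d + 1) k).IdealSheafData).subschemeι.app U)
  have hz : IsZero (ClSub.idealMod (⊥ : (CohB1.ProjSpace (d + 1) k).IdealSheafData)) := isZero_kernel_of_mono _
  have h2 := IsZero.of_iso hz eI.symm
  haveI := Cohom.subsingleton_HH_of_isZero h2 (d + 1)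
  -- the top cohomology of a very negative twist is not zero
  obtain ⟨e'⟩ := GrTilde.nonempty_twist_tensor_twist (𝒜 := CohB1.polyGrading (d + 1) k) CMReg.h1 (-(m : ℤ))
    (-((d : ℤ) + 2))
  have hz3 : IsZero (Twist.twistProjSpace (d + 1) k (-(m : ℤ) + -((d : ℤ) + 2))) :=
    IsZero.of_iso ((CMReg.ftFun (n := d + 1) (k := k) (-((d : ℤ) + 2))).map_isZero h2) e'.symm
  haveI := Cohom.subsingleton_HH_of_isZero hz3 (d + 1)
  obtain ⟨-, hr⟩ := finrank_Htop (k := k) (d + 1) (by omega) (-(m : ℤ) + -((d : ℤ) + 2))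
  rw [Module.finrank_zero_of_subsingleton, eq_comm, Nat.choose_eq_zero_iff] at hr
  omega

include eI in
/-- The sequence of a twisted hypersurface. -/
theorem exists_twisted_seq (t : ℤ) :
    ∃ S : ShortComplex (CohB1.ProjSpace (d + 1) k).Modules, S.ShortExact ∧
      Nonempty (S.X₁ ≅ Twist.twistProjSpace (d + 1) k (t - m)) ∧
      Nonempty (S.X₂ ≅ Twist.twistProjSpace (d + 1) k t) ∧
      S.X₃ = CohB1.tensorMod (ClSub.quotMod I) (Twist.twistProjSpace (d + 1) k t) := by
  obtain ⟨w, hS⟩ := exists_ses I.subschemeι I I.ker_subschemeι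
  obtain ⟨e1⟩ := GrTilde.nonempty_twist_tensor_twist (𝒜 := CohB1.polyGrading (d + 1) k) CMReg.h1 (-(m : ℤ)) t
  let O := Twist.twistProjSpace (d + 1) k t
  let e1' : CohB1.tensorMod (Twist.twistProjSpace (d + 1) k (-(m : ℤ))) O ≅ Twist.twistProjSpace (d + 1) k (t - m) :=
    e1 ≪≫ eqToIso (by rw [show -(m : ℤ) + t = t - m by ring]; rfl)
  let e2 : CohB1.tensorMod (Coh.structureModule (CohB1.ProjSpace (d + 1) k)) O ≅ O := OX.tensorUnitLeftIso O
  exact ⟨_, CMReg.ft_shortExact hS t, ⟨(CMReg.ftFun t).mapIso eI ≪≫ e1'⟩, ⟨e2⟩, rfl⟩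

include eI in
theorem subsingleton_above (t : ℤ) {p : ℕ} (hp : d < p) :
    Subsingleton (Coh.HH (CohB1.ProjSpace (d + 1) k)
      (CohB1.tensorMod (ClSub.quotMod I) (Twist.twistProjSpace (d + 1) k t)) p) := by
  let j := I.subschemeι
  letI : I.subscheme.Over (Spec (CommRingCat.of k)) := ⟨j ≫ CohB1.ProjSpace.toSpec (d + 1) k⟩
  let M := (Scheme.Modules.pullback j).obj (Twist.twistProjSpace (d + 1) k t)
  haveI : M.IsQuasicoherent := InvExt.isQuasicoherent_of_isInvertible
    (RelProjK.isInvertible_pullback j (CMReg.isInvertible_twist (n := d + 1) (k := k) t))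
  obtain ⟨e⟩ := Snapper.nonempty_HH_linearEquiv_pushforward (A := k) j rfl M p
  obtain ⟨e3⟩ := nonempty_projection j t
  haveI := Euler.isNoetherian_of_proper (X := CohB1.ProjSpace (d + 1) k) k
  haveI : NoetherianSpace ↥I.subscheme := j.isClosedEmbedding.isInducing.noetherianSpace
  haveI : Subsingleton (Coh.HH I.subscheme M p) :=
    GVanish.subsingleton_H_of_krullDim_le (X := TopCat.of ↥I.subscheme) d (dim_subscheme_le I (ne_bot I eI))
      (Coh.toAb M) p hp
  exact ((Euler.hhEquiv (A := k) e3 p).trans e.symm).toEquiv.subsingleton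

end GrothLib.CI20

namespace GrothLib.CI20

variable {k : Type u} [Field k] {d : ℕ} (I : (CohB1.ProjSpace (d + 1) k).IdealSheafData) {m : ℕ}
  (eI : ClSub.idealMod I ≅ Twist.twistProjSpace (d + 1) k (-(m : ℤ)))

include eI

/-- The cohomology of a twisted hypersurface of positive dimension. -/
theorem cohomology_hypersurface (hd : 1 ≤ d) (t : ℤ) :
    (∀ p : ℕ, p ≠ 0 → p ≠ d → Subsingleton (Coh.HH (CohB1.ProjSpace (d + 1) k)
      (CohB1.tensorMod (ClSub.quotMod I) (Twist.twistProjSpace (d + 1) k t)) p)) ∧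
    (Module.Finite k (Coh.HH (CohB1.ProjSpace (d + 1) k)
        (CohB1.tensorMod (ClSub.quotMod I) (Twist.twistProjSpace (d + 1) k t)) 0) ∧
      Nat.choose (t - m + ((d + 1 : ℕ) : ℤ)).toNat (d + 1) + Module.finrank k (Coh.HH (CohB1.ProjSpace (d + 1) k)
        (CohB1.tensorMod (ClSub.quotMod I) (Twist.twistProjSpace (d + 1) k t)) 0) =
        Nat.choose (t + ((d + 1 : ℕ) : ℤ)).toNat (d + 1)) ∧
    (Module.Finite k (Coh.HH (CohB1.ProjSpace (d + 1) k)
        (CohB1.tensorMod (ClSub.quotMod I) (Twist.twistProjSpace (d + 1) k t)) d) ∧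
      Module.finrank k (Coh.HH (CohB1.ProjSpace (d + 1) k)
        (CohB1.tensorMod (ClSub.quotMod I) (Twist.twistProjSpace (d + 1) k t)) d) +
          Nat.choose (-t - 1).toNat (d + 1) = Nat.choose (-(t - m) - 1).toNat (d + 1)) := by
  obtain ⟨S, hS, ⟨e1⟩, ⟨e2⟩, h3⟩ := exists_twisted_seq I eI t
  have habove := subsingleton_above I eI t (p := d + 1) (by omega)
  rw [← h3] at habove ⊢
  have v1 : ∀ q, q ≠ 0 → q ≠ d + 1 → Subsingleton (Coh.HH _ S.X₁ q) := fun q h h' =>
    haveI := ProjCohom.subsingleton_HH (n := d + 1) (R := k) (d := t - m) (q := q) (by omega) (by omega)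
    (Euler.hhEquiv (A := k) e1 q).toEquiv.subsingleton
  have v2 : ∀ q, q ≠ 0 → q ≠ d + 1 → Subsingleton (Coh.HH _ S.X₂ q) := fun q h h' =>
    haveI := ProjCohom.subsingleton_HH (n := d + 1) (R := k) (d := t) (q := q) (by omega) (by omega)
    (Euler.hhEquiv (A := k) e2 q).toEquiv.subsingleton
  refine ⟨fun p hp hpd => ?_, ?_, ?_⟩
  · rcases lt_or_gt_of_ne hpd with h | h
    · exact CMReg.subsingleton_X₃ hS (v2 p hp (by omega)) (v1 (p + 1) (by omega) (by omega))
    · rw [h3]; exact subsingleton_above I eI t h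
  · obtain ⟨_, h1⟩ := finrank_H0 (k := k) (d + 1) (by omega) (t - m)
    obtain ⟨_, h2⟩ := finrank_H0 (k := k) (d + 1) (by omega) t
    haveI := Module.Finite.equiv (Euler.hhEquiv (A := k) e2 0).symm
    obtain ⟨hf, hr⟩ := finrank_of_short (hhMap k S.f 0) (hhMap k S.g 0) (Euler.hhMap_zero_injective hS)
      (Cohom.exact₂ (A := k) hS 0) (fun y => (Cohom.exact₃ (A := k) hS 0 y).1
        (@Subsingleton.elim _ (v1 1 one_ne_zero (by omega)) _ _))
    refine ⟨hf, ?_⟩
    rw [(Euler.hhEquiv (A := k) e1 0).finrank_eq, (Euler.hhEquiv (A := k) e2 0).finrank_eq, h1, h2] at hr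
    exact hr
  · obtain ⟨_, h1⟩ := finrank_Htop (k := k) (d + 1) (by omega) (t - m)
    obtain ⟨_, h2⟩ := finrank_Htop (k := k) (d + 1) (by omega) t
    haveI := Module.Finite.equiv (Euler.hhEquiv (A := k) e1 (d + 1)).symm
    haveI := Module.Finite.equiv (Euler.hhEquiv (A := k) e2 (d + 1)).symm
    have hinj : Function.Injective (hhDelta k hS d) := (injective_iff_map_eq_zero _).2 fun x hx => by
      obtain ⟨y, rfl⟩ := (Cohom.exact₃ (A := k) hS d x).1 hx
      rw [@Subsingleton.elim _ (v2 d (by omega) (by omega)) y 0, map_zero]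
    have hsurj : Function.Surjective (hhMap k S.f (d + 1)) := fun y =>
      (Cohom.exact₂ (A := k) hS (d + 1) y).1 (@Subsingleton.elim _ habove _ _)
    refine ⟨Module.Finite.of_injective _ hinj, ?_⟩
    obtain ⟨-, hr⟩ := finrank_of_short (hhDelta k hS d) (hhMap k S.f (d + 1)) hinj (Cohom.exact₁ (A := k) hS d) hsurj
    rw [(Euler.hhEquiv (A := k) e1 (d + 1)).finrank_eq, (Euler.hhEquiv (A := k) e2 (d + 1)).finrank_eq, h1, h2] at hr
    exact hr

/-- The cohomology of a twisted hypersurface of dimension zero. -/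
theorem cohomology_points (hd : d = 0) (t : ℤ) :
    Module.Finite k (Coh.HH (CohB1.ProjSpace (d + 1) k)
        (CohB1.tensorMod (ClSub.quotMod I) (Twist.twistProjSpace (d + 1) k t)) 0) ∧
      Nat.choose (t - m + ((d + 1 : ℕ) : ℤ)).toNat (d + 1) + Module.finrank k (Coh.HH (CohB1.ProjSpace (d + 1) k)
        (CohB1.tensorMod (ClSub.quotMod I) (Twist.twistProjSpace (d + 1) k t)) 0) +
          Nat.choose (-t - 1).toNat (d + 1) =
        Nat.choose (t + ((d + 1 : ℕ) : ℤ)).toNat (d + 1) + Nat.choose (-(t - m) - 1).toNat (d + 1) := by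
  subst hd
  obtain ⟨S, hS, ⟨e1⟩, ⟨e2⟩, h3⟩ := exists_twisted_seq I eI t
  have habove := subsingleton_above I eI t (p := 1) (by omega)
  rw [← h3] at habove ⊢
  obtain ⟨_, a1⟩ := finrank_H0 (k := k) (0 + 1) (by omega) (t - m)
  obtain ⟨_, a2⟩ := finrank_H0 (k := k) (0 + 1) (by omega) t
  obtain ⟨_, b1⟩ := finrank_Htop (k := k) (0 + 1) (by omega) (t - m)
  obtain ⟨_, b2⟩ := finrank_Htop (k := k) (0 + 1) (by omega) t
  haveI := Module.Finite.equiv (Euler.hhEquiv (A := k) e2 0).symm
  haveI := Module.Finite.equiv (Euler.hhEquiv (A := k) e1 (0 + 1)).symm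
  obtain ⟨hf, hr⟩ := finrank_of_five (hhMap k S.f 0) (hhMap k S.g 0) (hhDelta k hS 0) (hhMap k S.f (0 + 1))
    (Euler.hhMap_zero_injective hS) (Cohom.exact₂ (A := k) hS 0) (Cohom.exact₃ (A := k) hS 0)
    (Cohom.exact₁ (A := k) hS 0) (fun y => (Cohom.exact₂ (A := k) hS (0 + 1) y).1 (@Subsingleton.elim _ habove _ _))
  refine ⟨hf, ?_⟩
  rw [(Euler.hhEquiv (A := k) e1 0).finrank_eq, (Euler.hhEquiv (A := k) e2 0).finrank_eq,
    (Euler.hhEquiv (A := k) e1 (0 + 1)).finrank_eq, (Euler.hhEquiv (A := k) e2 (0 + 1)).finrank_eq, a1, a2, b1, b2] at hr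
  exact hr

end GrothLib.CI20

namespace GrothLib.CI20

/-- The cohomology of a twisted hypersurface of the projective line. -/
theorem cohomology_line {k : Type u} [Field k] {m : ℕ} : ∀ (N : ℕ), N = 0 + 1 →
    ∀ (I : (CohB1.ProjSpace N k).IdealSheafData), Nonempty (ClSub.idealMod I ≅ Twist.twistProjSpace N k (-(m : ℤ))) →
    ∀ t : ℤ,
    (Module.Finite k (Coh.HH (CohB1.ProjSpace N k)
        (CohB1.tensorMod (ClSub.quotMod I) (Twist.twistProjSpace N k t)) 0) ∧
      Nat.choose (t - m + (N : ℤ)).toNat N + Module.finrank k (Coh.HH (CohB1.ProjSpace N k)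
        (CohB1.tensorMod (ClSub.quotMod I) (Twist.twistProjSpace N k t)) 0) + Nat.choose (-t - 1).toNat N =
        Nat.choose (t + (N : ℤ)).toNat N + Nat.choose (-(t - m) - 1).toNat N) ∧
    ∀ p : ℕ, 1 ≤ p → Subsingleton (Coh.HH (CohB1.ProjSpace N k)
        (CohB1.tensorMod (ClSub.quotMod I) (Twist.twistProjSpace N k t)) p) := by
  rintro N rfl I ⟨e⟩ t
  exact ⟨cohomology_points I e rfl t, fun p hp => subsingleton_above I e t hp⟩

end GrothLib.CI20
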