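import Groth.Agent.Lib.ProjDim.Inter
import Groth.Agent.Lib.RelGCIReg.Basic
import Groth.Agent.Lib.HypSurf.Chart
import Mathlib.RingTheory.Regular.RegularSequence

/-!
# Homogeneous forms cutting the dimension by their number form a regular sequence
-/

set_option autoImplicit false
set_option linter.style.haveILetI false
set_option linter.unusedSectionVars false
set_option maxHeartbeats 1000000

universe u

open MvPolynomial TopologicalSpace RingTheory.Sequence

noncomputable section

namespace GrothLib.CI20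

variable {k : Type u} [Field k] {n : ℕ}

local notation "S" => MvPolynomial (Fin (n + 1)) k
local notation "Pn" => ProjectiveSpectrum (CohB1.polyGrading n k)

/-- A quotient has dimension at most the largest dimension of a minimal prime. -/
theorem dim_quotient_le_of_minimalPrimes {I : Ideal S} {d : ℕ}
    (h : ∀ q ∈ I.minimalPrimes, ringKrullDim (S ⧸ q) ≤ (d : WithBot ℕ∞)) :
    ringKrullDim (S ⧸ I) ≤ (d : WithBot ℕ∞) := by
  refine iSup_le fun l => ?_
  let f : PrimeSpectrum (S ⧸ I) → PrimeSpectrum S := PrimeSpectrum.comap (Ideal.Quotient.mk I)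
  have hf : StrictMono f := fun a b hab => by
    refine lt_of_le_of_ne (Ideal.comap_mono hab.le) fun he => hab.ne ?_
    exact PrimeSpectrum.comap_injective_of_surjective _ Ideal.Quotient.mk_surjective he
  have hI : I ≤ (f l.head).asIdeal := fun a ha => by
    show Ideal.Quotient.mk I a ∈ l.head.asIdeal
    rw [Ideal.Quotient.eq_zero_iff_mem.2 ha]
    exact zero_mem _
  obtain ⟨q, hq, hqP⟩ := Ideal.exists_minimalPrimes_le hI
  haveI := hq.1.1
  have h1 := h q hq
  rw [show q = (⟨q, inferInstance⟩ : PrimeSpectrum S).asIdeal from rfl,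
    AffDom.ringKrullDim_quotient_eq_coheight] at h1
  have h2 : (l.length : ℕ∞) ≤ Order.coheight (⟨q, inferInstance⟩ : PrimeSpectrum S) := by
    have := Order.length_le_coheight (x := (⟨q, inferInstance⟩ : PrimeSpectrum S)) (p := l.map f hf) (by
      rw [LTSeries.head_map]; exact hqP)
    simpa using this
  exact le_trans (by exact_mod_cast h2) h1

/-- The dimension of the cone over a zero locus. -/
theorem dim_cone_le {I : Ideal S} (hI : I.IsHomogeneous (CohB1.polyGrading n k)) {d : ℕ}
    (hd : topologicalKrullDim ↥(ProjectiveSpectrum.zeroLocus (CohB1.polyGrading n k) (I : Set S)) ≤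
      (d : WithBot ℕ∞)) :
    ringKrullDim (S ⧸ I) ≤ ((d + 1 : ℕ) : WithBot ℕ∞) := by
  refine dim_quotient_le_of_minimalPrimes fun q hq => ?_
  haveI := hq.1.1
  obtain ⟨e, he⟩ := ProjDim.exists_nat_dim_quotient q
  rw [he]
  rcases Nat.eq_zero_or_pos e with rfl | he0
  · exact_mod_cast Nat.zero_le _
  obtain ⟨z, hz, hzI⟩ := ProjDim.exists_point_of_minimalPrime hI hq (by rw [he]; exact_mod_cast he0)
  have h1 := ProjDim.dim_closure_add_one z
  rw [hz, he] at h1
  have h2 : topologicalKrullDim (closure {z} : Set Pn) ≤ (d : WithBot ℕ∞) :=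
    ((Topology.IsEmbedding.inclusion ((ProjectiveSpectrum.isClosed_zeroLocus _ _).closure_subset_iff.2
      (Set.singleton_subset_iff.2 hzI))).isInducing.topologicalKrullDim_le).trans hd
  have h3 := ProjDim.add_one_le_add_one_iff.2 h2
  rw [h1] at h3
  exact_mod_cast h3

variable {r : ℕ} {a : Fin r → ℕ}

/-- The ideal of the first `m` forms. -/
def preIdeal (G : ∀ j : Fin r, LefPen.Form n k (a j)) (m : ℕ) : Ideal S :=
  Ideal.span ((fun j => (G j : S)) '' {j | j.val < m})

/-- The forms are a regular sequence. -/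
def RegForms (G : ∀ j : Fin r, LefPen.Form n k (a j)) : Prop :=
  ∀ (m : Fin r) (h : S), h * (G m : S) ∈ preIdeal G m → h ∈ preIdeal G m

theorem isHomogeneous_preIdeal (G : ∀ j : Fin r, LefPen.Form n k (a j)) (m : ℕ) :
    (preIdeal G m).IsHomogeneous (CohB1.polyGrading n k) :=
  Ideal.homogeneous_span _ _ (by rintro _ ⟨j, -, rfl⟩; exact ⟨a j, (G j).2⟩)

theorem component_eq (f : S) (i : ℕ) :
    ((DirectSum.decompose (CohB1.polyGrading n k) f i : CohB1.polyGrading n k i) : S) = homogeneousComponent i f :=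
  decomposition.decompose'_apply f i

theorem component_mem {I : Ideal S} (hI : I.IsHomogeneous (CohB1.polyGrading n k)) {f : S} (hf : f ∈ I) (i : ℕ) :
    homogeneousComponent i f ∈ I := component_eq f i ▸ hI i hf

theorem component_mul {d : ℕ} (f g : S) (hg : g ∈ CohB1.polyGrading n k d) (i : ℕ) :
    homogeneousComponent (i + d) (f * g) = homogeneousComponent i f * g := by
  rw [← component_eq, ← component_eq,
    DirectSum.coe_decompose_mul_of_right_mem_of_le (CohB1.polyGrading n k) hg (Nat.le_add_left d i),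
    Nat.add_sub_cancel]

theorem coeff_zero_component (s : S) : homogeneousComponent 0 s = C (constantCoeff s) := by
  rw [homogeneousComponent_zero]; rfl

/-- An element which is regular at the vertex is regular. -/
theorem mem_of_mul_mem {I : Ideal S} (hI : I.IsHomogeneous (CohB1.polyGrading n k)) {d : ℕ} {g : S}
    (hg : g ∈ CohB1.polyGrading n k d)
    (hloc : ∀ h : S, h * g ∈ I → ∃ s ∉ ProjDim.mIdeal k n, s * h ∈ I) {h : S} (hh : h * g ∈ I) : h ∈ I := by
  rw [← sum_homogeneousComponent h]
  refine Ideal.sum_mem _ fun i _ => ?_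
  have hi : homogeneousComponent i h * g ∈ I := component_mul h g hg i ▸ component_mem hI hh (i + d)
  obtain ⟨s, hs, hsI⟩ := hloc _ hi
  have h1 := component_mem hI hsI i
  have h2 : homogeneousComponent (0 + i) (s * homogeneousComponent i h) =
      homogeneousComponent 0 s * homogeneousComponent i h :=
    component_mul s _ (homogeneousComponent_mem i h) 0
  rw [Nat.zero_add, coeff_zero_component] at h2
  rw [h2] at h1
  have hu : IsUnit (C (constantCoeff s) : S) := (isUnit_iff_ne_zero.2 hs).map C
  exact (Ideal.unit_mul_mem_iff_mem I hu).1 h1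

theorem take_ofFn_mem (G : ∀ j : Fin r, LefPen.Form n k (a j)) (m : Fin r) :
    Ideal.ofList ((List.ofFn fun j => (G j : S)).take m) = preIdeal G m := by
  rw [Ideal.ofList, preIdeal]
  congr 1
  ext x
  simp only [Set.mem_setOf_eq, List.mem_take_iff_getElem, List.length_ofFn, List.getElem_ofFn, Set.mem_image]
  constructor
  · rintro ⟨i, hi, rfl⟩
    exact ⟨⟨i, (lt_of_lt_of_le hi (min_le_right _ _))⟩, lt_of_lt_of_le hi (min_le_left _ _), rfl⟩
  · rintro ⟨j, hj, rfl⟩
    exact ⟨j.1, lt_min hj j.2, rfl⟩

/-- Forms cutting out a set of the expected dimension are regular. -/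
theorem regForms_of_dim (hr : r ≤ n) (ha : ∀ j, 1 ≤ a j) (G : ∀ j : Fin r, LefPen.Form n k (a j))
    (hd : topologicalKrullDim ↥(ProjectiveSpectrum.zeroLocus (CohB1.polyGrading n k)
      (Ideal.span (Set.range fun j => (G j : S)) : Set S)) ≤ ((n - r : ℕ) : WithBot ℕ∞)) :
    RegForms G := by
  let I : Ideal S := Ideal.span (Set.range fun j => (G j : S))
  have hI : I.IsHomogeneous (CohB1.polyGrading n k) :=
    Ideal.homogeneous_span _ _ (by rintro _ ⟨j, rfl⟩; exact ⟨a j, (G j).2⟩)
  have hdim : ringKrullDim (S ⧸ I) ≤ ((n + 1 - r : ℕ) : WithBot ℕ∞) := by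
    have := dim_cone_le hI hd
    rwa [show n - r + 1 = n + 1 - r by omega] at this
  have hIm : I ≤ ProjDim.mIdeal k n := Ideal.span_le.2 (by
    rintro _ ⟨j, rfl⟩
    show constantCoeff (G j : S) = 0
    rw [constantCoeff_eq]
    exact IsHomogeneous.coeff_eq_zero (G j).2 (by have := ha j; simp; omega))
  have hreg := (RelGCIReg.isRegular_atPrime_of_dim (show r ≤ n + 1 by omega) (fun j => (G j : S)) hdim
    (ProjDim.mIdeal k n) hIm).toIsWeaklyRegular
  intro m h hh
  refine mem_of_mul_mem (isHomogeneous_preIdeal G m) (G m).2 (fun h' hh' => ?_) hh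
  let L := Localization.AtPrime (ProjDim.mIdeal k n)
  have hm : m.1 < ((List.ofFn fun j => (G j : S)).map (algebraMap S L)).length := by simp
  have h1 := hreg.regular_mod_prev m.1 hm
  rw [← List.map_take, ← Ideal.map_ofList, take_ofFn_mem, smul_eq_mul, Ideal.mul_top] at h1
  simp only [List.getElem_map, List.getElem_ofFn, Fin.eta] at h1
  have h2 : algebraMap S L h' ∈ (preIdeal G m).map (algebraMap S L) := by
    rw [← Ideal.Quotient.eq_zero_iff_mem]
    refine h1 ?_
    show algebraMap S L (G m : S) • Ideal.Quotient.mk _ (algebraMap S L h') = _ • (0 : _ ⧸ _)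
    rw [smul_zero, ← Ideal.Quotient.mk_eq_mk, ← Submodule.Quotient.mk_smul, smul_eq_mul, ← map_mul,
      Submodule.Quotient.mk_eq_zero, mul_comm]
    exact Ideal.mem_map_of_mem _ hh'
  obtain ⟨s, hs, hs'⟩ := (IsLocalization.algebraMap_mem_map_algebraMap_iff (ProjDim.mIdeal k n).primeCompl L _ _).1 h2
  exact ⟨s, hs, hs'⟩

/-- Regularity passes to initial segments. -/
theorem RegForms.castSucc {r : ℕ} {a : Fin (r + 1) → ℕ} {G : ∀ j : Fin (r + 1), LefPen.Form n k (a j)}
    (h : RegForms G) : RegForms (fun j : Fin r => G j.castSucc) := by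
  intro m
  have e : preIdeal (fun j : Fin r => G j.castSucc) m = preIdeal G m.castSucc := by
    refine le_antisymm (Ideal.span_mono ?_) (Ideal.span_mono ?_)
    · rintro _ ⟨j, hj, rfl⟩; exact ⟨j.castSucc, hj, rfl⟩
    · rintro _ ⟨j, hj, rfl⟩
      exact ⟨⟨j.1, lt_trans hj m.2⟩, hj, rfl⟩
  rw [e]
  exact h m.castSucc

/-- The last form is regular modulo the others. -/
theorem RegForms.last {r : ℕ} {a : Fin (r + 1) → ℕ} {G : ∀ j : Fin (r + 1), LefPen.Form n k (a j)}
    (h : RegForms G) {f : S} (hf : f * (G (Fin.last r) : S) ∈ Ideal.span (Set.range fun j : Fin r => (G j.castSucc : S))) :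
    f ∈ Ideal.span (Set.range fun j : Fin r => (G j.castSucc : S)) := by
  have e : Ideal.span (Set.range fun j : Fin r => (G j.castSucc : S)) = preIdeal G (Fin.last r) := by
    refine le_antisymm (Ideal.span_mono ?_) (Ideal.span_mono ?_)
    · rintro _ ⟨j, rfl⟩; exact ⟨j.castSucc, j.2, rfl⟩
    · rintro _ ⟨j, hj, rfl⟩
      exact ⟨⟨j.1, hj⟩, rfl⟩
  rw [e] at hf ⊢
  exact h _ f hf

theorem RegForms.ne_zero (ha : ∀ j, 1 ≤ a j) {G : ∀ j : Fin r, LefPen.Form n k (a j)} (h : RegForms G) (m : Fin r) :
    (G m : S) ≠ 0 := fun h0 => by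
  have h1 : (1 : S) ∈ preIdeal G m := h m 1 (by rw [h0, mul_zero]; exact zero_mem _)
  have h2 : preIdeal G m ≤ ProjDim.mIdeal k n := Ideal.span_le.2 (by
    rintro _ ⟨j, -, rfl⟩
    show constantCoeff (G j : S) = 0
    rw [constantCoeff_eq]
    exact IsHomogeneous.coeff_eq_zero (G j).2 (by have := ha j; simp; omega))
  exact one_ne_zero ((map_one (constantCoeff : S →+* k)).symm.trans (h2 h1))

/-! ### Dehomogenization -/

open GrothLib.HypSurf (subst)

variable (j : Fin (n + 1))

theorem subst_X_self : subst (k := k) j (X j) = 1 := by simp [subst]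

/-- Dehomogenization is injective on forms. -/
theorem eq_zero_of_subst {N : ℕ} {P : S} (hP : P.IsHomogeneous N) (h : subst j P = 0) : P = 0 := by
  let K := FractionRing S
  let x : Fin (n + 1) → K := fun l => algebraMap S K (X l)
  have hx : x j ≠ 0 := (map_ne_zero_iff _ (IsFractionRing.injective S K)).2 (X_ne_zero j)
  have hscale : aeval (R := k) (fun l => (x j)⁻¹ * x l) P = (x j)⁻¹ ^ N * algebraMap S K P := by
    have he : algebraMap S K P = aeval (R := k) x P := by
      rw [show x = (algebraMap S K) ∘ X from rfl, aeval_algebraMap_apply, aeval_X_left_apply]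
    rw [he, aeval_def, aeval_def, eval₂_eq', eval₂_eq', Finset.mul_sum]
    refine Finset.sum_congr rfl fun e he' => ?_
    have hdeg : ∑ l, e l = N := by
      have := hP (mem_support_iff.1 he')
      simpa [Finsupp.weight_apply, Finsupp.sum_fintype] using this
    simp only [mul_pow, Finset.prod_mul_distrib, Finset.prod_pow_eq_pow_sum, hdeg]
    ring
  have hfac : aeval (R := k) (fun l => (x j)⁻¹ * x l) P =
      aeval (R := k) (fun l => (x j)⁻¹ * x (j.succAbove l)) (subst j P) := by
    rw [subst, ← AlgHom.comp_apply, comp_aeval]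
    congr 2
    funext l
    obtain rfl | ⟨m, rfl⟩ := Fin.eq_self_or_eq_succAbove j l
    · simp [inv_mul_cancel₀ hx]
    · simp
  rw [h, map_zero, hscale, mul_eq_zero] at hfac
  exact (map_eq_zero_iff _ (IsFractionRing.injective S K)).1
    (hfac.resolve_left (pow_ne_zero _ (inv_ne_zero hx)))

/-- Homogenization in all large degrees. -/
theorem exists_homog (b : MvPolynomial (Fin n) k) :
    ∃ N₀ : ℕ, ∀ N, N₀ ≤ N → ∃ H : S, H.IsHomogeneous N ∧ subst j H = b := by
  let b' : S := rename j.succAbove b
  have hb : subst j b' = b := by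
    rw [subst, aeval_rename, show (Fin.insertNth j (1 : MvPolynomial (Fin n) k) X) ∘ j.succAbove = X from
      funext fun l => by simp, aeval_X_left_apply]
  refine ⟨b'.totalDegree, fun N hN => ⟨∑ i ∈ Finset.range (b'.totalDegree + 1),
    X j ^ (N - i) * homogeneousComponent i b', ?_, ?_⟩⟩
  · refine IsHomogeneous.sum _ _ _ fun i hi => ?_
    have := ((isHomogeneous_X k j).pow (N - i)).mul (homogeneousComponent_isHomogeneous i b')
    rwa [one_mul, Nat.sub_add_cancel (le_trans (Nat.lt_succ_iff.1 (Finset.mem_range.1 hi)) hN)] at this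
  · simp only [map_sum, map_mul, map_pow, subst_X_self, one_pow, one_mul]
    rw [← map_sum, sum_homogeneousComponent, hb]

/-- The last form stays regular after dehomogenization. -/
theorem RegForms.subst_last {r : ℕ} {a : Fin (r + 1) → ℕ} {G : ∀ l : Fin (r + 1), LefPen.Form n k (a l)}
    (h : RegForms G) {b : MvPolynomial (Fin n) k}
    (hb : b * subst j (G (Fin.last r) : S) ∈
      Ideal.span (Set.range fun l : Fin r => subst j (G l.castSucc : S))) :
    b ∈ Ideal.span (Set.range fun l : Fin r => subst j (G l.castSucc : S)) := by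
  rw [Ideal.mem_span_range_iff_exists_fun] at hb
  obtain ⟨c, hc⟩ := hb
  obtain ⟨N₀, hN₀⟩ := exists_homog j b
  choose M hM using fun l => exists_homog j (c l)
  let N := N₀ + ∑ l, (M l + a l.castSucc)
  let d := a (Fin.last r)
  obtain ⟨H, hH, hHb⟩ := hN₀ N (Nat.le_add_right _ _)
  have hle : ∀ l, M l + a l.castSucc ≤ N + d := fun l => by
    have := Finset.single_le_sum (f := fun l => M l + a l.castSucc) (fun _ _ => Nat.zero_le _) (Finset.mem_univ l)
    omega
  choose Cc hCc hCcb using fun l => hM l (N + d - a l.castSucc) (by have := hle l; omega)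
  have hz : H * (G (Fin.last r) : S) - ∑ l, Cc l * (G l.castSucc : S) = 0 := by
    refine eq_zero_of_subst j (N := N + d) ?_ ?_
    · refine IsHomogeneous.sub (hH.mul (G (Fin.last r)).2) (IsHomogeneous.sum _ _ _ fun l _ => ?_)
      have := (hCc l).mul (G l.castSucc).2
      rwa [Nat.sub_add_cancel (by have := hle l; omega)] at this
    · simp only [map_sub, map_mul, map_sum, hHb, hCcb, hc, sub_self]
  have hmem : H ∈ Ideal.span (Set.range fun l : Fin r => (G l.castSucc : S)) := by
    refine h.last ?_
    rw [sub_eq_zero.1 hz]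
    exact Ideal.sum_mem _ fun l _ => Ideal.mul_mem_left _ _ (Ideal.subset_span ⟨l, rfl⟩)
  have hmap := Ideal.mem_map_of_mem (subst j).toRingHom hmem
  rw [Ideal.map_span, ← Set.range_comp] at hmap
  rw [← hHb]
  exact hmap

end GrothLib.CI20
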