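import Groth.Agent.Lib.CI20.Seq
import Groth.Agent.Lib.NegTwist.H0

/-!
# Cohomology of complete intersections
-/

set_option autoImplicit false
set_option linter.style.haveILetI false
set_option maxHeartbeats 1000000
set_option backward.isDefEq.respectTransparency false

universe u

open CategoryTheory CategoryTheory.Limits AlgebraicGeometry TopologicalSpace Opposite
open GrothLib.Cohom (hhMap hhDelta)

noncomputable section

namespace GrothLib.CI20

variable {k : Type u} [Field k] {n : ℕ}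

/-- `Φ_t` of a morphism of modules. -/
abbrev ftMap {A B : (CohB1.ProjSpace n k).Modules} (φ : A ⟶ B) (t : ℤ) : CMReg.Ft A t ⟶ CMReg.Ft B t :=
  (CMReg.ftFun t).map φ

/-- An isomorphism of schemes gives an isomorphism of structure modules. -/
theorem isIso_unitToPush {X Y : Scheme.{u}} (f : X ⟶ Y) [IsIso f] : IsIso (ClSub.unitToPush f) := by
  rw [Scheme.Modules.Hom.isIso_iff_isIso_app]
  intro U
  rw [ConcreteCategory.isIso_iff_bijective]
  exact ConcreteCategory.bijective_of_isIso (f.app U)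

/-- Vanishing of the intermediate cohomology and lifting of sections. -/
theorem vanishing_and_surjective (r : ℕ) : ∀ (a : Fin r → ℕ) (G : ∀ l, LefPen.Form n k (a l)),
    (∀ l, 1 ≤ a l) → RegForms G → r ≤ n →
    (∀ (t : ℤ) (p : ℕ), 0 < p → p < n - r →
      Subsingleton (Coh.HH (CohB1.ProjSpace n k) (CMReg.Ft (ClSub.quotMod (LefPen.ciIdeal G)) t) p)) ∧
    (r < n → ∀ t : ℤ, Function.Surjective (hhMap k (ftMap (ClSub.toSubscheme (LefPen.ciIdeal G)) t) 0)) := by
  induction r with
  | zero =>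
    intro a G _ _ _
    have hI : LefPen.ciIdeal G = ⊥ := le_bot_iff.1 (iSup_le fun l => l.elim0)
    haveI : IsIso (LefPen.ciIdeal G).subschemeι := (Scheme.isIso_subschemeι_iff_eq_bot _).2 hI
    haveI := isIso_unitToPush (LefPen.ciIdeal G).subschemeι
    let e (t : ℤ) : CMReg.Ft (Coh.structureModule (CohB1.ProjSpace n k)) t ≅
        CMReg.Ft (ClSub.quotMod (LefPen.ciIdeal G)) t :=
      (CMReg.ftFun t).mapIso (asIso (ClSub.toSubscheme (LefPen.ciIdeal G)))
    refine ⟨fun t p hp hpn => ?_, fun _ t => (Euler.hhEquiv (A := k) (e t) 0).surjective⟩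
    let O := Twist.twistProjSpace n k t
    let e2 : CohB1.tensorMod (Coh.structureModule (CohB1.ProjSpace n k)) O ≅ O := OX.tensorUnitLeftIso O
    let e' : CMReg.Ft (ClSub.quotMod (LefPen.ciIdeal G)) t ≅ O := (e t).symm ≪≫ e2
    haveI := ProjCohom.subsingleton_HH (n := n) (R := k) (d := t) (q := p) (by omega) (by omega)
    exact (Euler.hhEquiv (A := k) e' p).toEquiv.subsingleton
  | succ m ih =>
    intro a G ha hreg hmn
    obtain ⟨ihv, ihs⟩ := ih (fun l => a l.castSucc) (fun l => G l.castSucc) (fun l => ha _) hreg.castSucc (by omega)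
    have hne : G (Fin.last m) ≠ 0 := fun h => hreg.ne_zero ha (Fin.last m) (by rw [h]; rfl)
    obtain ⟨K, ι, g, w, hS, ⟨eK⟩, hg⟩ := exists_step G hreg hne
    have hK : ∀ (t : ℤ) (p : ℕ), 0 < p → p < n - m →
        Subsingleton (Coh.HH (CohB1.ProjSpace n k) (CMReg.Ft K t) p) := by
      intro t p hp hpn
      obtain ⟨e2⟩ := CMReg.nonempty_Ft_Ft (ClSub.quotMod (LefPen.ciIdeal fun l : Fin m => G l.castSucc))
        (-(a (Fin.last m) : ℤ)) t (-(a (Fin.last m) : ℤ) + t) rfl
      haveI := ihv (-(a (Fin.last m) : ℤ) + t) p hp hpn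
      exact (Euler.hhEquiv (A := k) ((CMReg.ftFun t).mapIso eK ≪≫ e2) p).toEquiv.subsingleton
    refine ⟨fun t p hp hpn => CMReg.sub_X₃ hS (ihv t p hp (by omega)) (hK t (p + 1) (by omega) (by omega)),
      fun hlt t => ?_⟩
    have hS' := CMReg.ft_shortExact hS t
    have h1 : ftMap (ClSub.toSubscheme (LefPen.ciIdeal G)) t =
        ftMap (ClSub.toSubscheme (LefPen.ciIdeal fun l : Fin m => G l.castSucc)) t ≫ ftMap g t := by
      rw [← hg]; exact Functor.map_comp _ _ _
    intro y
    haveI := hK t 1 one_pos (by omega)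
    obtain ⟨z, hz⟩ := (Cohom.exact₃ (A := k) hS' 0 y).1
      (@Subsingleton.elim _ (hK t 1 one_pos (by omega)) _ _)
    obtain ⟨x, rfl⟩ := ihs (by omega) t z
    exact ⟨x, (congrArg (fun φ => hhMap k φ 0 x) h1).trans ((Euler.hhMap_comp _ _ 0 x).trans hz)⟩

end GrothLib.CI20
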