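import Groth.Agent.Lib.CI20.Algebra
import Groth.Agent.Lib.HypSurf.IdealSeq

/-!
# The points of a complete intersection
-/

set_option autoImplicit false
set_option linter.style.haveILetI false
set_option maxHeartbeats 1000000
set_option backward.isDefEq.respectTransparency.types false

universe u

open CategoryTheory CategoryTheory.Limits AlgebraicGeometry TopologicalSpace
open GrothLib.Ample (res)

noncomputable section

namespace GrothLib.CI20

variable {k : Type u} [Field k] {n : ℕ}

/-- A point lies on a hypersurface iff its form vanishes there. -/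
theorem mem_support_hyp {d : ℕ} (G : LefPen.Form n k d) (x : ↥(CohB1.ProjSpace n k)) :
    x ∈ (LefPen.hypIdeal G).support ↔ (G.1 : MvPolynomial (Fin (n + 1)) k) ∈ x.asHomogeneousIdeal := by
  obtain ⟨j, hj⟩ := Opens.mem_iSup.1 ((Ample.ProjMap.iSup_basicOpen_X n k).ge (Opens.mem_top x))
  rw [Scheme.IdealSheafData.mem_support_iff_of_mem (U := ⟨LefPen.chart n k j, HypSurf.isAffineOpen_chart j⟩) hj,
    HypSurf.hypIdeal_ideal_eq G _ j le_rfl, Ample.res_self]
  erw [Scheme.zeroLocus_span, Scheme.mem_zeroLocus_iff]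
  simp only [Set.mem_singleton_iff, forall_eq]
  erw [Scheme.mem_basicOpen (CohB1.ProjSpace n k) _ _ hj]
  have key : IsUnit ((CohB1.ProjSpace n k).presheaf.germ _ x hj (LefPen.dehom G j)) ↔
      IsUnit (Ample.ProjTwist.ev (⟨x, hj⟩ : LefPen.chart n k j) (LefPen.dehom G j)) := by
    unfold Ample.ProjTwist.ev
    rw [HomogeneousLocalization.isUnit_iff_isUnit_val]
    have e := Proj.stalkIso'_germ (CohB1.polyGrading n k) _ x hj (LefPen.dehom G j)
    constructor
    · intro h
      have h' := IsUnit.map (Proj.stalkIso' (CohB1.polyGrading n k) x).toRingHom h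
      exact e ▸ h'
    · intro h
      refine (isUnit_map_iff (Proj.stalkIso' (CohB1.polyGrading n k) x) _).1 ?_
      exact (congrArg IsUnit e).mpr h
  rw [key, HypSurf.ev_dehom, Localization.mk_eq_mk', IsLocalization.AtPrime.isUnit_mk'_iff]
  exact not_not

variable {r : ℕ} {a : Fin r → ℕ} (G : ∀ j, LefPen.Form n k (a j))

/-- The points of a complete intersection. -/
theorem mem_support_ci (x : ↥(CohB1.ProjSpace n k)) :
    x ∈ (LefPen.ciIdeal G).support ↔ x ∈ ProjectiveSpectrum.zeroLocus (CohB1.polyGrading n k)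
      (Ideal.span (Set.range fun j => (G j : MvPolynomial (Fin (n + 1)) k)) : Set (MvPolynomial (Fin (n + 1)) k)) := by
  rw [LefPen.ciIdeal, Scheme.IdealSheafData.support_iSup]
  erw [ProjectiveSpectrum.zeroLocus_span, ProjectiveSpectrum.mem_zeroLocus]
  rw [← SetLike.mem_coe, TopologicalSpace.Closeds.coe_iInf, Set.mem_iInter]
  constructor
  · rintro h _ ⟨j, rfl⟩
    exact (mem_support_hyp (G j) x).1 (h j)
  · exact fun h j => (mem_support_hyp (G j) x).2 (h ⟨j, rfl⟩)

/-- The homeomorphism with the zero locus. -/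
theorem exists_homeo : Nonempty (↥(LefPen.ciIdeal G).subscheme ≃ₜ
    ↥(ProjectiveSpectrum.zeroLocus (CohB1.polyGrading n k)
      (Ideal.span (Set.range fun j => (G j : MvPolynomial (Fin (n + 1)) k)) : Set (MvPolynomial (Fin (n + 1)) k)))) := by
  have he := (LefPen.ciIdeal G).subschemeι.isClosedEmbedding.isEmbedding
  refine ⟨he.toHomeomorph.trans (Homeomorph.setCongr ?_)⟩
  rw [Scheme.IdealSheafData.range_subschemeι]
  ext x
  exact mem_support_ci G x

/-- The dimension of a complete intersection is that of the zero locus. -/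
theorem dim_eq : topologicalKrullDim ↥(LefPen.ciIdeal G).subscheme =
    topologicalKrullDim ↥(ProjectiveSpectrum.zeroLocus (CohB1.polyGrading n k)
      (Ideal.span (Set.range fun j => (G j : MvPolynomial (Fin (n + 1)) k)) : Set (MvPolynomial (Fin (n + 1)) k))) := by
  obtain ⟨e⟩ := exists_homeo G
  exact le_antisymm e.isEmbedding.isInducing.topologicalKrullDim_le e.symm.isEmbedding.isInducing.topologicalKrullDim_le

/-- A complete intersection is cut out by a regular sequence. -/
theorem regForms (hr : r ≤ n) (ha : ∀ j, 1 ≤ a j)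
    (hdim : topologicalKrullDim ↥(LefPen.ciIdeal G).subscheme = ((n - r : ℕ) : WithBot ℕ∞)) : RegForms G :=
  regForms_of_dim hr ha G (by rw [← dim_eq]; exact hdim.le)

/-- Every component of the zero locus of `r` forms has dimension at least `n - r`. -/
theorem le_dim_component {C : Set ↥(LefPen.ciIdeal G).subscheme}
    (hC : C ∈ irreducibleComponents ↥(LefPen.ciIdeal G).subscheme) :
    ((n - r : ℕ) : WithBot ℕ∞) ≤ topologicalKrullDim ↥C := by
  classical
  obtain ⟨e⟩ := exists_homeo G
  have hC' : e '' C ∈ irreducibleComponents _ := by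
    refine ⟨hC.1.image e e.continuous.continuousOn, fun D hD hCD => ?_⟩
    have h1 : C ≤ e ⁻¹' D := fun x hx => hCD ⟨x, hx, rfl⟩
    have h2 : IsIrreducible (e ⁻¹' D) := by
      rw [← Homeomorph.image_symm]
      exact hD.image _ e.symm.continuous.continuousOn
    intro y hy
    have := hC.2 h2 h1 (show e.symm y ∈ e ⁻¹' D by simpa using hy)
    exact ⟨e.symm y, this, by simp⟩
  have hdimC : topologicalKrullDim ↥(e '' C) ≤ topologicalKrullDim ↥C :=
    (e.image C).symm.isEmbedding.isInducing.topologicalKrullDim_le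
  refine le_trans ?_ hdimC
  obtain ⟨q, hq, hdim⟩ := ProjDim.exists_minimalPrime_of_component
    (Ideal.homogeneous_span _ _ (by rintro _ ⟨j, rfl⟩; exact ⟨a j, (G j).2⟩)) hC'
  haveI := hq.1.1
  haveI : (⊥ : Ideal (MvPolynomial (Fin (n + 1)) k)).IsPrime := Ideal.isPrime_bot
  have h := ProjDim.dim_le_dim_add_card (⊥ : Ideal (MvPolynomial (Fin (n + 1)) k))
    (Finset.univ.image fun j => (G j : MvPolynomial (Fin (n + 1)) k)) (q := q)
    (by rw [bot_sup_eq, Finset.coe_image, Finset.coe_univ, Set.image_univ]; exact hq)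
  rw [ringKrullDim_eq_of_ringEquiv (RingEquiv.quotientBot _), MvPolynomial.ringKrullDim_of_isNoetherianRing,
    ringKrullDim_eq_zero_of_field, zero_add, ← hdim] at h
  have hcard : (Finset.univ.image fun j => (G j : MvPolynomial (Fin (n + 1)) k)).card ≤ r :=
    Finset.card_image_le.trans (by simp)
  obtain ⟨d, hd⟩ := ProjDim.exists_nat_dim_quotient q
  rw [hdim, hd] at h
  have h' : n + 1 ≤ d + r := le_trans (by simpa [Nat.card_eq_fintype_card] using (by exact_mod_cast h : Nat.card (Fin (n + 1)) ≤ _)) (Nat.add_le_add_left hcard d)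
  refine ProjDim.add_one_le_add_one_iff.1 ?_
  rw [hdim, hd]
  exact_mod_cast (show n - r + 1 ≤ d by
    rcases Nat.eq_zero_or_pos d with h0 | h0
    · have := hC'.1.1.to_subtype
      have h1 : (0 : WithBot ℕ∞) ≤ topologicalKrullDim ↥(e '' C) := by
        obtain ⟨y⟩ : Nonempty ↥(e '' C) := this
        haveI : Nonempty (IrreducibleCloseds ↥(e '' C)) :=
          ⟨⟨closure {y}, isIrreducible_singleton.closure, isClosed_closure⟩⟩
        exact Order.krullDim_nonneg
      have h2 := ProjDim.add_one_le_add_one_iff.2 h1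
      rw [hdim, hd, h0, zero_add] at h2
      exact absurd h2 (by decide)
    · omega)

end GrothLib.CI20
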