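import Groth.Agent.Lib.OmegaBC.Section
import Groth.Agent.Lib.BlowUp.IdealComap

/-!
# Pulling back an invertible ideal which stays locally regular
-/

set_option autoImplicit false
set_option linter.style.haveILetI false
set_option maxHeartbeats 1000000
set_option backward.isDefEq.respectTransparency.types false

universe u

open CategoryTheory CategoryTheory.Limits AlgebraicGeometry TopologicalSpace TensorProduct

noncomputable section

namespace GrothLib.CI20

open GrothLib.OmegaBC

variable {X Y : Scheme.{u}}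

theorem pullι_comp_comap (f : X ⟶ Y) (I : Y.IdealSheafData) :
    pullι f I ≫ ClSub.toSubscheme (I.comap f) = 0 := by
  let J := I.comap f
  have hle : I.subschemeι.ker ≤ (J.subschemeι ≫ f).ker := by
    rw [Scheme.IdealSheafData.ker_subschemeι]
    exact Scheme.IdealSheafData.le_map_comap I f
  let g : J.subscheme ⟶ I.subscheme := IsClosedImmersion.lift I.subschemeι (J.subschemeι ≫ f) hle
  have h := OmegaBC.pullι_comp_toSubscheme I.subschemeι J.subschemeι g f
    (IsClosedImmersion.lift_fac _ _ hle).symm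
  have key : ∀ (I' : Y.IdealSheafData) (J' : X.IdealSheafData), I' = I → J' = J →
      pullι f I' ≫ ClSub.toSubscheme J' = 0 → pullι f I ≫ ClSub.toSubscheme J = 0 := by
    rintro _ _ rfl rfl h
    exact h
  exact key _ _ I.ker_subschemeι J.ker_subschemeι h

/-- The comparison of the pulled back ideal module with the ideal of the inverse image. -/
def pullToComap (f : X ⟶ Y) (I : Y.IdealSheafData) :
    (Scheme.Modules.pullback f).obj (ClSub.idealMod I) ⟶ ClSub.idealMod (I.comap f) :=
  kernel.lift _ (pullι f I) (pullι_comp_comap f I)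

/-- If local equations of an invertible ideal stay regular, its pull back is the ideal of the inverse image. -/
theorem isIso_pullToComap (f : X ⟶ Y) (I : Y.IdealSheafData)
    (hloc : ∀ x : X, ∃ (U : Y.affineOpens) (hx : f x ∈ U.1) (a : Γ(Y, U.1)), I.ideal U = Ideal.span {a} ∧
      ∀ b, b * f.stalkMap x (Y.presheaf.germ U.1 (f x) hx a) = 0 → b = 0) :
    IsIso (pullToComap f I) := by
  rw [OX.isIso_iff]
  intro x
  letI := (f.stalkMap x).hom.toAlgebra
  obtain ⟨U, hxU, a, ha, hreg⟩ := hloc x
  obtain ⟨V, hV, hxV, hVU⟩ := exists_isAffineOpen_mem_and_subset (x := x) (U := f ⁻¹ᵁ U.1) hxU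
  let α := pullToComap f I
  let aY : Y.presheaf.stalk (f x) := Y.presheaf.germ U.1 (f x) hxU a
  let aX : X.presheaf.stalk x := f.stalkMap x aY
  obtain ⟨v, hv, hvv⟩ := exists_unit_pullι f I x
  -- the source is generated by one element
  have hrI : LinearMap.range (sval I (f x)) = Ideal.span {aY} := by
    rw [range_sval I (f x) U hxU, ha, Ideal.map_span, Set.image_singleton]
  obtain ⟨n₀, hn₀⟩ : aY ∈ LinearMap.range (sval I (f x)) := hrI ▸ Ideal.mem_span_singleton_self aY
  let m : (ModuleCat.extendScalars (f.stalkMap x).hom).obj ((OX.stalk (f x)).obj (ClSub.idealMod I)) :=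
    (1 : X.presheaf.stalk x) ⊗ₜ[Y.presheaf.stalk (f x)] n₀
  have hgen : ∀ t : (ModuleCat.extendScalars (f.stalkMap x).hom).obj ((OX.stalk (f x)).obj (ClSub.idealMod I)),
      ∃ b : X.presheaf.stalk x, t = b • m := by
    intro t
    induction t using TensorProduct.induction_on with
    | zero => exact ⟨0, (zero_smul (X.presheaf.stalk x) m).symm⟩
    | add s t hs ht =>
      obtain ⟨b, hb⟩ := hs
      obtain ⟨c, hc⟩ := ht
      exact ⟨b + c, by rw [add_smul, ← hb, ← hc]; rfl⟩
    | tmul b n =>
      change X.presheaf.stalk x at b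
      have hn : sval I (f x) n ∈ Ideal.span {aY} := hrI ▸ ⟨n, rfl⟩
      obtain ⟨c, hc⟩ := Ideal.mem_span_singleton'.1 hn
      have hn' : n = c • n₀ := sval_injective I (f x) (by rw [map_smul, hn₀, smul_eq_mul, hc])
      refine ⟨b * f.stalkMap x c, ?_⟩
      subst hn'
      show b ⊗ₜ[Y.presheaf.stalk (f x)] (c • n₀) = ((b * f.stalkMap x c) • (1 : X.presheaf.stalk x)) ⊗ₜ[Y.presheaf.stalk (f x)] n₀
      rw [TensorProduct.tmul_smul, TensorProduct.smul_tmul', Algebra.smul_def, smul_eq_mul, mul_one, mul_comm]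
      rfl
  let T := (toStalk f (ClSub.idealMod I) x ≫ (OX.stalk x).map α).hom
  have hT : ∀ b : X.presheaf.stalk x,
      sval (I.comap f) x (T (b • m)) = b * (v * aX) := by
    intro b
    refine (congrArg (sval (I.comap f) x) (map_smul T b _)).trans ((map_smul _ b _).trans ?_)
    rw [smul_eq_mul]
    refine congrArg (b * ·) (Eq.trans ?_ ((hvv n₀).trans (by rw [hn₀])))
    show (ouni x).symm (((toStalk f (ClSub.idealMod I) x ≫ (OX.stalk x).map α) ≫
      (OX.stalk x).map (ClSub.idealModι (I.comap f))).hom _) = _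
    rw [Category.assoc, ← Functor.map_comp, show α ≫ ClSub.idealModι (I.comap f) = pullι f I from kernel.lift_ι _ _ _]
  have hrJ : LinearMap.range (sval (I.comap f) x) = Ideal.span {aX} := by
    rw [range_sval (I.comap f) x ⟨V, hV⟩ hxV, BlowUp.ideal_comap_eq_map I f U ⟨V, hV⟩ hVU, ha, Ideal.map_span,
      Ideal.map_span, Set.image_singleton, Set.image_singleton]
    refine congrArg (fun z => Ideal.span {z}) ?_
    show X.presheaf.germ V x hxV (f.appLE U.1 V hVU a) = f.stalkMap x (Y.presheaf.germ U.1 (f x) hxU a)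
    rw [Scheme.Hom.germ_stalkMap_apply]
    exact TopCat.Presheaf.germ_res_apply X.presheaf (homOfLE hVU) x hxV _
  have hbij : Function.Bijective T := by
    refine ⟨(injective_iff_map_eq_zero T).2 fun t ht => ?_, fun w => ?_⟩
    · obtain ⟨b, rfl⟩ := hgen t
      have h := hT b
      rw [ht, map_zero] at h
      have hb : b * v = 0 := hreg (b * v) (by rw [mul_assoc]; exact h.symm)
      have hb0 : b = 0 := hv.mul_left_eq_zero.1 hb
      rw [hb0, zero_smul]
    · have hw : sval (I.comap f) x w ∈ Ideal.span {aX} := hrJ ▸ ⟨w, rfl⟩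
      obtain ⟨c, hc⟩ := Ideal.mem_span_singleton'.1 hw
      refine ⟨(c * ↑hv.unit⁻¹) • m,
        sval_injective _ _ ((hT _).trans ?_)⟩
      rw [← mul_assoc, mul_assoc c, hv.val_inv_mul, mul_one, hc]
  haveI : IsIso (toStalk f (ClSub.idealMod I) x ≫ (OX.stalk x).map α) :=
    (ConcreteCategory.isIso_iff_bijective _).2 hbij
  haveI : IsIso (toStalk f (ClSub.idealMod I) x) := by unfold toStalk; infer_instance
  exact IsIso.of_isIso_comp_left (toStalk f (ClSub.idealMod I) x) ((OX.stalk x).map α)

end GrothLib.CI20
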