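import Groth.Agent.Lib.CI20.Induction
import Groth.Agent.Lib.HodgeIndex.Pullback
import Groth.Agent.Lib.GCFun11.Basic

/-!
# Sections and connectedness of complete intersections
-/

set_option autoImplicit false
set_option linter.style.haveILetI false
set_option maxHeartbeats 1000000
set_option backward.isDefEq.respectTransparency false

universe u

open CategoryTheory CategoryTheory.Limits AlgebraicGeometry TopologicalSpace Opposite
open GrothLib.Cohom (hhMap)

noncomputable section

namespace GrothLib.CI20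

variable {k : Type u} [Field k] {n r : ℕ} {a : Fin r → ℕ} (G : ∀ l, LefPen.Form n k (a l))
  (ha : ∀ l, 1 ≤ a l) (hr : r ≤ n)
  (hdim : topologicalKrullDim ↥(LefPen.ciIdeal G).subscheme = ((n - r : ℕ) : WithBot ℕ∞))

include ha hr hdim

theorem subsingleton_twist (t : ℤ) {p : ℕ} (hp : 0 < p) (hpn : p < n - r) :
    Subsingleton (Coh.HH (LefPen.ciIdeal G).subscheme
      ((Scheme.Modules.pullback (LefPen.ciIdeal G).subschemeι).obj (Twist.twistProjSpace n k t)) p) := by
  let j := (LefPen.ciIdeal G).subschemeι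
  letI : (LefPen.ciIdeal G).subscheme.Over (Spec (CommRingCat.of k)) := ⟨j ≫ CohB1.ProjSpace.toSpec n k⟩
  let M := (Scheme.Modules.pullback j).obj (Twist.twistProjSpace n k t)
  haveI : M.IsQuasicoherent := InvExt.isQuasicoherent_of_isInvertible
    (RelProjK.isInvertible_pullback j (CMReg.isInvertible_twist (n := n) (k := k) t))
  obtain ⟨e⟩ := Snapper.nonempty_HH_linearEquiv_pushforward (A := k) j rfl M p
  obtain ⟨e3⟩ := nonempty_projection j t
  haveI := (vanishing_and_surjective r a G ha (regForms G hr ha hdim) hr).1 t p hp hpn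
  exact (e.trans (Euler.hhEquiv (A := k) e3 p).symm).toEquiv.subsingleton

/-- The map `O(t) → ι_* ι^* O(t)` obtained from the quotient map is an epimorphism, surjective on sections. -/
theorem exists_theta (hrn : r < n) (t : ℤ) :
    ∃ θ : Twist.twistProjSpace n k t ⟶ (Scheme.Modules.pushforward (LefPen.ciIdeal G).subschemeι).obj
        ((Scheme.Modules.pullback (LefPen.ciIdeal G).subschemeι).obj (Twist.twistProjSpace n k t)),
      Epi θ ∧ Function.Surjective (θ.app ⊤) := by
  let j := (LefPen.ciIdeal G).subschemeι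
  let O := Twist.twistProjSpace n k t
  let u := ClSub.toSubscheme (LefPen.ciIdeal G)
  obtain ⟨e3⟩ := nonempty_projection j t
  let e2 : CohB1.tensorMod (Coh.structureModule (CohB1.ProjSpace n k)) O ≅ O := OX.tensorUnitLeftIso O
  obtain ⟨w, hS⟩ := exists_ses j _ (LefPen.ciIdeal G).ker_subschemeι
  haveI : Epi (ftMap u t) := (CMReg.ft_shortExact hS t).epi_g
  refine ⟨e2.inv ≫ ftMap u t ≫ e3.hom, epi_comp _ _, fun y => ?_⟩
  obtain ⟨z, hz⟩ := (vanishing_and_surjective r a G ha (regForms G hr ha hdim) hr).2 hrn t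
    (Cohom.hhMap k e3.inv 0 ((ProjCoh.H0top _).symm y))
  refine ⟨ProjCoh.H0top O (Cohom.hhMap k e2.hom 0 z), ?_⟩
  rw [← NegTwist.H0top_hhMap k (e2.inv ≫ ftMap u t ≫ e3.hom)]
  refine (congrArg _ ?_).trans ((ProjCoh.H0top _).apply_symm_apply y)
  rw [← Euler.hhMap_comp, e2.hom_inv_id_assoc, Euler.hhMap_comp, hz, ← Euler.hhMap_comp, e3.inv_hom_id,
    Euler.hhMap_id]

theorem surjective_unit (h1 : 1 ≤ n - r) (t : ℤ) :
    Function.Surjective (((Scheme.Modules.pullbackPushforwardAdjunction (LefPen.ciIdeal G).subschemeι).unit.app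
      (Twist.twistProjSpace n k t)).app ⊤) := by
  let j := (LefPen.ciIdeal G).subschemeι
  let O := Twist.twistProjSpace n k t
  let M := (Scheme.Modules.pullback j).obj O
  let adj := Scheme.Modules.pullbackPushforwardAdjunction j
  obtain ⟨θ, hθ, hsurj⟩ := exists_theta G ha hr hdim (by omega) t
  let h : M ⟶ M := (Scheme.Modules.pullback j).map θ ≫ adj.counit.app M
  have hfac : θ = adj.unit.app O ≫ (Scheme.Modules.pushforward j).map h := by
    refine ((adj.homEquiv _ _).apply_symm_apply θ).symm.trans ?_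
    rw [Adjunction.homEquiv_counit, Adjunction.homEquiv_unit]
  haveI : Epi ((Scheme.Modules.pullback j).map θ) :=
    haveI := (Scheme.Modules.pullbackPushforwardAdjunction j).isLeftAdjoint
    haveI := Functor.preservesEpimorphisms_of_isLeftAdjoint (Scheme.Modules.pullback j)
    inferInstance
  haveI : Epi (adj.counit.app M) := epi_of_epi_fac (adj.left_triangle_components O)
  haveI : Epi h := epi_comp _ _
  have hM : PicF.IsInvertible M := RelProjK.isInvertible_pullback j (CMReg.isInvertible_twist (n := n) (k := k) t)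
  haveI : IsIso h := HodgeIndex.isIso_of_epi_inv hM hM h
  intro y
  obtain ⟨x, hx⟩ := hsurj (((Scheme.Modules.pushforward j).map h).app ⊤ y)
  refine ⟨x, (ConcreteCategory.bijective_of_isIso (((Scheme.Modules.pushforward j).map h).app ⊤)).1 ?_⟩
  rw [← hx, hfac]
  rfl

/-- A positive dimensional complete intersection has only constant functions. -/
theorem bijective_const (h1 : 1 ≤ n - r) :
    Function.Bijective ((Scheme.ΓSpecIso (CommRingCat.of k)).inv ≫
      ((LefPen.ciIdeal G).subschemeι ≫ CohB1.ProjSpace.toSpec n k).appTop) := by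
  let X := (LefPen.ciIdeal G).subscheme
  let j := (LefPen.ciIdeal G).subschemeι
  haveI : Nonempty X := by
    by_contra h0
    haveI : IsEmpty X := not_nonempty_iff.1 h0
    have h2 : topologicalKrullDim ↥X = ⊥ := by
      haveI : IsEmpty (IrreducibleCloseds ↥X) := ⟨fun Z => Z.2.1.elim fun x _ => isEmptyElim x⟩
      exact Order.krullDim_eq_bot
    rw [h2] at hdim
    exact WithBot.coe_ne_bot hdim.symm
  haveI : Nonempty ↥(⊤ : X.Opens) := ⟨⟨Classical.arbitrary X, trivial⟩⟩
  haveI : Nontrivial Γ(X, ⊤) := LocallyRingedSpace.component_nontrivial X.toLocallyRingedSpace ⊤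
  refine ⟨RingHom.injective (R := k) _, fun s => ?_⟩
  obtain ⟨θ, -, hθ⟩ := exists_theta G ha hr hdim (by omega) 0
  obtain ⟨e0⟩ := GrTilde.nonempty_structureModule_iso_twist_zero (CohB1.polyGrading n k)
  let e0' : Coh.structureModule (CohB1.ProjSpace n k) ≅ Twist.twistProjSpace n k 0 := e0
  let eM : (Scheme.Modules.pullback j).obj (Twist.twistProjSpace n k 0) ≅ Coh.structureModule X :=
    (Scheme.Modules.pullback j).mapIso e0'.symm ≪≫ OX.pullUnitIso j
  let ψ : Coh.structureModule (CohB1.ProjSpace n k) ⟶ (Scheme.Modules.pushforward j).obj (Coh.structureModule X) :=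
    e0'.hom ≫ θ ≫ (Scheme.Modules.pushforward j).map eM.hom
  have hψ : Function.Surjective (ψ.app ⊤) :=
    (ConcreteCategory.bijective_of_isIso ((((Scheme.Modules.pushforward j).map eM.hom)).app ⊤)).2.comp
      (hθ.comp (ConcreteCategory.bijective_of_isIso (e0'.hom.app ⊤)).2)
  let v : Γ(X, ⊤) := ψ.app ⊤ (1 : Γ(CohB1.ProjSpace n k, ⊤))
  have hlin : ∀ b : Γ(CohB1.ProjSpace n k, ⊤), (show Γ(X, ⊤) from ψ.app ⊤ b) = j.appTop b * v := fun b => by
    have h := Scheme.Modules.Hom.app_smul ψ b (1 : Γ(CohB1.ProjSpace n k, ⊤))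
    rw [show b • (1 : Γ(CohB1.ProjSpace n k, ⊤)) = b from mul_one b] at h
    exact h
  obtain ⟨b0, hb0⟩ := hψ (1 : Γ(X, ⊤))
  have hb1 : j.appTop b0 * v = 1 := (hlin b0).symm.trans hb0
  obtain ⟨b, hb⟩ := hψ (s * v)
  have hb2 : j.appTop b = s := by
    have h3 : j.appTop b * v = s * v := (hlin b).symm.trans hb
    calc j.appTop b = j.appTop b * (j.appTop b0 * v) := by rw [hb1, mul_one]
      _ = (j.appTop b * v) * j.appTop b0 := by ring
      _ = s := by rw [h3, mul_assoc, mul_comm v, hb1, mul_one]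
  obtain ⟨c, hc⟩ := ProjDim.exists_eq_toSpec_appTop (n := n) (k := k) (by omega) b
  refine ⟨(Scheme.ΓSpecIso (CommRingCat.of k)).hom c, ?_⟩
  rw [CommRingCat.comp_apply, Iso.hom_inv_id_apply, Scheme.Hom.comp_appTop, CommRingCat.comp_apply, ← hb2, hc]

end GrothLib.CI20
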