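import Groth.Agent.Lib.CI20.Step
import Groth.Agent.Lib.CycNorm12.Local
import Groth.Agent.Lib.K0Sub.PushExact
import Groth.Agent.Lib.CurveMult.PlaneCohom

/-!
# The sequence of one more hypersurface, on projective space
-/

set_option autoImplicit false
set_option linter.style.haveILetI false
set_option maxHeartbeats 1000000
set_option backward.isDefEq.respectTransparency false

universe u

open CategoryTheory CategoryTheory.Limits AlgebraicGeometry TopologicalSpace Opposite

noncomputable section

namespace GrothLib.CI20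

variable {k : Type u} [Field k] {n : ℕ}

/-- The projection formula for the structure module of a closed subscheme. -/
theorem nonempty_projection {X : Scheme.{u}} (j : X ⟶ CohB1.ProjSpace n k) [IsClosedImmersion j] (t : ℤ) :
    Nonempty (CMReg.Ft ((Scheme.Modules.pushforward j).obj (Coh.structureModule X)) t ≅
      (Scheme.Modules.pushforward j).obj ((Scheme.Modules.pullback j).obj (Twist.twistProjSpace n k t))) := by
  let O := Twist.twistProjSpace n k t
  let M := (Scheme.Modules.pullback j).obj O
  haveI := ProjFormula.isIso_projHom j (Euler.isFinLocFree_of_isInvertible (CMReg.isInvertible_twist (n := n) (k := k) t))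
    (Coh.structureModule X)
  exact ⟨GrTilde.tensorModComm _ _ ≪≫ asIso (ProjFormula.projHom j O (Coh.structureModule X)) ≪≫
      (Scheme.Modules.pushforward j).mapIso (GrTilde.tensorModComm _ _ ≪≫ OX.tensorUnitLeftIso M)⟩

/-- The quotient map of a composite of closed immersions. -/
theorem exists_comp_unitToPush {W Y P : Scheme.{u}} (c : W ⟶ Y) (j : Y ⟶ P) (h : W ⟶ P) (hh : c ≫ j = h) :
    ∃ e : (Scheme.Modules.pushforward j).obj ((Scheme.Modules.pushforward c).obj (Coh.structureModule W)) ≅
        (Scheme.Modules.pushforward h).obj (Coh.structureModule W),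
      ClSub.unitToPush j ≫ (Scheme.Modules.pushforward j).map (ClSub.unitToPush c) ≫ e.hom = ClSub.unitToPush h := by
  subst hh
  refine ⟨(Scheme.Modules.pushforwardComp c j).app _, Scheme.Modules.hom_ext _ _ fun U => ?_⟩
  ext s
  rfl

/-- The ideal of the last hypersurface joins the others. -/
theorem ciIdeal_succ {r : ℕ} {a : Fin (r + 1) → ℕ} (G : ∀ l : Fin (r + 1), LefPen.Form n k (a l)) :
    LefPen.ciIdeal G = LefPen.ciIdeal (fun l : Fin r => G l.castSucc) ⊔ LefPen.hypIdeal (G (Fin.last r)) := by
  refine le_antisymm (iSup_le fun l => ?_) (sup_le (iSup_le fun l => le_iSup (fun l => LefPen.hypIdeal (G l)) l.castSucc)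
    (le_iSup (fun l => LefPen.hypIdeal (G l)) (Fin.last r)))
  refine Fin.lastCases (motive := fun l => LefPen.hypIdeal (G l) ≤ _) le_sup_right (fun i => ?_) l
  exact le_sup_of_le_left (le_iSup (fun i : Fin r => LefPen.hypIdeal (G i.castSucc)) i)

/-- The kernel of the inclusion of a smaller closed subscheme. -/
theorem ker_inclusion {P : Scheme.{u}} {I H F : P.IdealSheafData} (hF : F = I ⊔ H) (h : I ≤ F) :
    (Scheme.IdealSheafData.inclusion h).ker = H.comap I.subschemeι := by
  let c := Scheme.IdealSheafData.inclusion h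
  haveI : IsClosedImmersion (c ≫ I.subschemeι) := by
    rw [Scheme.IdealSheafData.inclusion_subschemeι]; infer_instance
  haveI : IsClosedImmersion c := IsClosedImmersion.of_comp c I.subschemeι
  refine Scheme.IdealSheafData.ext_of_iSup_eq_top
    (fun U : P.affineOpens => (⟨I.subschemeι ⁻¹ᵁ U.1, U.2.preimage I.subschemeι⟩ : I.subscheme.affineOpens)) ?_
    fun U => ?_
  · rw [← Scheme.Hom.preimage_iSup, iSup_affineOpens_eq_top, Scheme.Hom.preimage_top]
  rw [Scheme.Hom.ker_apply, CycNorm12.comap_ideal_preimage]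
  have hker : RingHom.ker ((c ≫ I.subschemeι).app U.1).hom = I.ideal U ⊔ H.ideal U := by
    have key : ∀ (φ : F.subscheme ⟶ P) (_ : φ = F.subschemeι), RingHom.ker (φ.app U.1).hom = F.ideal U := by
      rintro _ rfl
      exact F.ker_subschemeι_app U
    rw [key _ (Scheme.IdealSheafData.inclusion_subschemeι h), hF]
    rfl
  have hs := I.subschemeι_app_surjective U
  have h2 := congrArg (Ideal.map (I.subschemeι.app U.1).hom) hker
  rw [Ideal.map_sup, ← I.ker_subschemeι_app U,
    (Ideal.map_eq_bot_iff_le_ker (f := (I.subschemeι.app U.1).hom)).2 le_rfl, bot_sup_eq] at h2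
  rw [← h2, Scheme.Hom.comp_app, CommRingCat.hom_comp, ← RingHom.comap_ker,
    Ideal.map_comap_of_surjective _ hs]

/-- The ideal sequence of a closed immersion with given kernel. -/
theorem exists_ses {X Z : Scheme.{u}} (c : Z ⟶ X) [IsClosedImmersion c] (J : X.IdealSheafData) (hJ : c.ker = J) :
    ∃ w : ClSub.idealModι J ≫ ClSub.unitToPush c = 0,
      (ShortComplex.mk (ClSub.idealModι J) (ClSub.unitToPush c) w).ShortExact := by
  subst hJ
  have w : ClSub.idealModι c.ker ≫ ClSub.unitToPush c = 0 := by
    refine Scheme.Modules.hom_ext _ _ fun U => ?_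
    ext m
    have h0 : c.ker.subschemeι.app U (IdealModSec.val c.ker U m) = 0 :=
      congrArg (fun φ : ClSub.idealMod c.ker ⟶ _ => φ.app U m) (kernel.condition (ClSub.toSubscheme c.ker))
    have key : ∀ (φ : Z ⟶ X) (_ : c.toImage ≫ c.ker.subschemeι = φ), φ.app U (IdealModSec.val c.ker U m) = 0 := by
      rintro _ rfl
      rw [Scheme.Hom.comp_app, CommRingCat.comp_apply, h0, map_zero]
    exact key c c.toImage_imageι
  refine ⟨w, CMReg.shortExact_of_local c _ w fun x => ⟨⊤, trivial, fun T _ => ⟨?_, fun s hs => ?_⟩⟩⟩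
  · haveI : Mono (ClSub.idealModι c.ker) := by show Mono (kernel.ι _); exact equalizer.ι_mono
    exact Cohom.app_injective_of_mono (ClSub.idealModι c.ker) T.1
  · obtain ⟨m, hm⟩ := IdealModSec.exists_val_eq c.ker T (show s ∈ c.ker.ideal T by rwa [Scheme.Hom.ker_apply])
    exact ⟨m, hm⟩

variable {r : ℕ} {a : Fin (r + 1) → ℕ} (G : ∀ l : Fin (r + 1), LefPen.Form n k (a l))

/-- One more hypersurface gives a short exact sequence on projective space. -/
theorem exists_step (hreg : RegForms G) (hne : G (Fin.last r) ≠ 0) :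
    ∃ (K : (CohB1.ProjSpace n k).Modules) (ι : K ⟶ ClSub.quotMod (LefPen.ciIdeal fun l : Fin r => G l.castSucc))
      (g : ClSub.quotMod (LefPen.ciIdeal fun l : Fin r => G l.castSucc) ⟶ ClSub.quotMod (LefPen.ciIdeal G))
      (w : ι ≫ g = 0), (ShortComplex.mk ι g w).ShortExact ∧
      Nonempty (K ≅ CMReg.Ft (ClSub.quotMod (LefPen.ciIdeal fun l : Fin r => G l.castSucc)) (-(a (Fin.last r) : ℤ))) ∧
      ClSub.toSubscheme (LefPen.ciIdeal fun l : Fin r => G l.castSucc) ≫ g = ClSub.toSubscheme (LefPen.ciIdeal G) := by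
  let I := LefPen.ciIdeal fun l : Fin r => G l.castSucc
  let F := LefPen.ciIdeal G
  let H := LefPen.hypIdeal (G (Fin.last r))
  have hle : I ≤ F := by rw [show F = I ⊔ H from ciIdeal_succ G]; exact le_sup_left
  let c := Scheme.IdealSheafData.inclusion hle
  haveI : IsClosedImmersion (c ≫ I.subschemeι) := by
    rw [Scheme.IdealSheafData.inclusion_subschemeι]; infer_instance
  haveI : IsClosedImmersion c := IsClosedImmersion.of_comp c I.subschemeι
  obtain ⟨w, hS⟩ := exists_ses c (H.comap I.subschemeι) (ker_inclusion (ciIdeal_succ G) hle)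
  obtain ⟨-, hlim, hcolim⟩ := K0Sub.pushforward_exact I.subschemeι
  haveI := hlim
  haveI := hcolim
  have hS' := hS.map_of_exact (Scheme.Modules.pushforward I.subschemeι)
  obtain ⟨e, he⟩ := exists_comp_unitToPush c I.subschemeι F.subschemeι (Scheme.IdealSheafData.inclusion_subschemeι hle)
  obtain ⟨e1⟩ := nonempty_idealMod_step hreg hne
  obtain ⟨e3⟩ := nonempty_projection I.subschemeι (-(a (Fin.last r) : ℤ))
  let f' := (Scheme.Modules.pushforward I.subschemeι).map (ClSub.idealModι (H.comap I.subschemeι))
  let g' := (Scheme.Modules.pushforward I.subschemeι).map (ClSub.unitToPush c)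
  refine ⟨_, f', g' ≫ e.hom, by rw [← Category.assoc, ← Functor.map_comp, w, Functor.map_zero, zero_comp], ?_,
    ⟨(Scheme.Modules.pushforward I.subschemeι).mapIso e1 ≪≫ e3.symm⟩, he⟩
  refine ShortComplex.shortExact_of_iso (S₁ := (ShortComplex.mk _ _ w).map (Scheme.Modules.pushforward I.subschemeι))
    (ShortComplex.isoMk (Iso.refl _) (Iso.refl _) e ?_ ?_) hS'
  · exact (Category.id_comp _).trans (Category.comp_id _).symm
  · exact Category.id_comp _

end GrothLib.CI20
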