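import Groth.Agent.Lib.CI20.Points
import Groth.Agent.Lib.CI20.PullIdeal
import Groth.Agent.Lib.HypSurf.IdealSeq
import Groth.Agent.Lib.HypSurf.Chart

/-!
# One step of a complete intersection
-/

set_option autoImplicit false
set_option linter.style.haveILetI false
set_option maxHeartbeats 1000000
set_option backward.isDefEq.respectTransparency.types false

universe u

open CategoryTheory CategoryTheory.Limits AlgebraicGeometry TopologicalSpace
open GrothLib.Ample (res)

noncomputable section

namespace GrothLib.CI20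

variable {k : Type u} [Field k] {n : ℕ}

/-- A complete intersection ideal on an affine open in a chart. -/
theorem ci_ideal_eq {r : ℕ} {a : Fin r → ℕ} (G : ∀ l, LefPen.Form n k (a l)) (j : Fin (n + 1))
    (U : (CohB1.ProjSpace n k).affineOpens) (hU : U.1 ≤ LefPen.chart n k j) :
    (LefPen.ciIdeal G).ideal U = Ideal.span (Set.range fun l => res hU (LefPen.dehom (G l) j)) := by
  rw [LefPen.ciIdeal, Scheme.IdealSheafData.ideal_iSup, iSup_apply, Ideal.span_range_eq_iSup]
  exact iSup_congr fun l => HypSurf.hypIdeal_ideal_eq (G l) U j hU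

variable {r : ℕ} {a : Fin (r + 1) → ℕ} {G : ∀ l : Fin (r + 1), LefPen.Form n k (a l)}

/-- The last equation is regular on the chart of the previous intersection. -/
theorem mem_chart (hreg : RegForms G) (j : Fin (n + 1)) {b : Γ(CohB1.ProjSpace n k, LefPen.chart n k j)}
    (hb : b * LefPen.dehom (G (Fin.last r)) j ∈
      (LefPen.ciIdeal fun l : Fin r => G l.castSucc).ideal ⟨LefPen.chart n k j, HypSurf.isAffineOpen_chart j⟩) :
    b ∈ (LefPen.ciIdeal fun l : Fin r => G l.castSucc).ideal ⟨LefPen.chart n k j, HypSurf.isAffineOpen_chart j⟩ := by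
  let e : MvPolynomial (Fin n) k ≃+* Γ(CohB1.ProjSpace n k, LefPen.chart n k j) :=
    RingEquiv.ofBijective _ (HypSurf.emb_bijective j)
  have hg : ∀ (l : Fin (r + 1)), e (HypSurf.subst j (G l).1) = LefPen.dehom (G l) j := fun l => by
    show HypSurf.emb j (HypSurf.subst j (G l).1) = _
    rw [HypSurf.emb_subst, CurveMult.PnMap.χ_form]
  have hI : (LefPen.ciIdeal fun l : Fin r => G l.castSucc).ideal
      ⟨LefPen.chart n k j, HypSurf.isAffineOpen_chart j⟩ =
      (Ideal.span (Set.range fun l : Fin r => HypSurf.subst j (G l.castSucc).1)).map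
        (e : MvPolynomial (Fin n) k →+* Γ(CohB1.ProjSpace n k, LefPen.chart n k j)) := by
    rw [ci_ideal_eq _ j _ le_rfl, Ideal.map_span, ← Set.range_comp]
    refine congrArg Ideal.span (congrArg Set.range (funext fun l => ?_))
    simp only [Function.comp_apply, Ample.res_self]
    exact (hg l.castSucc).symm
  rw [hI] at hb ⊢
  obtain ⟨c, rfl⟩ := e.surjective b
  rw [← hg, ← map_mul] at hb
  exact Ideal.mem_map_of_mem _ (hreg.subst_last j ((Ideal.apply_mem_of_equiv_iff (f := e)).1 hb))

/-- The last equation stays regular in the local rings of the previous intersection. -/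
theorem exists_equation (hreg : RegForms G) (y : ↥(LefPen.ciIdeal fun l : Fin r => G l.castSucc).subscheme) :
    ∃ (U : (CohB1.ProjSpace n k).affineOpens)
      (hx : (LefPen.ciIdeal fun l : Fin r => G l.castSucc).subschemeι y ∈ U.1) (c : Γ(CohB1.ProjSpace n k, U.1)),
      (LefPen.hypIdeal (G (Fin.last r))).ideal U = Ideal.span {c} ∧
      ∀ b, b * (LefPen.ciIdeal fun l : Fin r => G l.castSucc).subschemeι.stalkMap y
        ((CohB1.ProjSpace n k).presheaf.germ U.1 _ hx c) = 0 → b = 0 := by
  let I := LefPen.ciIdeal fun l : Fin r => G l.castSucc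
  obtain ⟨j, hj⟩ := Opens.mem_iSup.1 ((Ample.ProjMap.iSup_basicOpen_X n k).ge (Opens.mem_top (I.subschemeι y)))
  let U : (CohB1.ProjSpace n k).affineOpens := ⟨LefPen.chart n k j, HypSurf.isAffineOpen_chart j⟩
  refine ⟨U, hj, LefPen.dehom (G (Fin.last r)) j,
    (HypSurf.hypIdeal_ideal_eq _ U j le_rfl).trans (by rw [Ample.res_self]), fun b hb => ?_⟩
  let V := I.subschemeι ⁻¹ᵁ U.1
  have hV : IsAffineOpen V := U.2.preimage I.subschemeι
  let g : Γ(I.subscheme, V) := I.subschemeι.app U.1 (LefPen.dehom (G (Fin.last r)) j)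
  have hgreg : ∀ z : Γ(I.subscheme, V), z * g = 0 → z = 0 := by
    intro z hz
    obtain ⟨w, rfl⟩ := I.subschemeι_app_surjective U z
    rw [← map_mul, ← RingHom.mem_ker, I.ker_subschemeι_app] at hz
    have h := mem_chart hreg j hz
    rwa [← I.ker_subschemeι_app U, RingHom.mem_ker] at h
  have hb' : b * I.subscheme.presheaf.germ V y hj g = 0 := by
    rw [Scheme.Hom.germ_stalkMap_apply] at hb
    exact hb
  letI := TopCat.Presheaf.algebra_section_stalk I.subscheme.presheaf (U := V) ⟨y, hj⟩
  haveI := hV.isLocalization_stalk ⟨y, hj⟩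
  obtain ⟨z, s, rfl⟩ := IsLocalization.exists_mk'_eq (hV.primeIdealOf ⟨y, hj⟩).asIdeal.primeCompl b
  have h1 : IsLocalization.mk' (I.subscheme.presheaf.stalk y) z s * algebraMap Γ(I.subscheme, V) _ g = 0 := hb'
  rw [mul_comm, IsLocalization.mul_mk'_eq_mk'_of_mul, IsLocalization.mk'_eq_zero_iff, mul_comm g z] at h1
  obtain ⟨t, ht⟩ := h1
  rw [IsLocalization.mk'_eq_zero_iff]
  exact ⟨t, hgreg _ (by rw [mul_assoc]; exact ht)⟩

/-- The ideal module of a nonzero hypersurface. -/
theorem nonempty_idealMod_hyp {d : ℕ} (F : LefPen.Form n k d) (hF : F ≠ 0) :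
    Nonempty (ClSub.idealMod (LefPen.hypIdeal F) ≅ Twist.twistProjSpace n k (-(d : ℤ))) := by
  obtain ⟨ι, w, hS⟩ := HypSurf.exists_idealSeq F hF
  exact ⟨IsLimit.conePointUniqueUpToIso (kernelIsKernel (ClSub.toSubscheme (LefPen.hypIdeal F))) hS.fIsKernel⟩

/-- The ideal of one more hypersurface inside a complete intersection. -/
theorem nonempty_idealMod_step (hreg : RegForms G) (hne : G (Fin.last r) ≠ 0) :
    Nonempty (ClSub.idealMod ((LefPen.hypIdeal (G (Fin.last r))).comap
        (LefPen.ciIdeal fun l : Fin r => G l.castSucc).subschemeι) ≅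
      (Scheme.Modules.pullback (LefPen.ciIdeal fun l : Fin r => G l.castSucc).subschemeι).obj
        (Twist.twistProjSpace n k (-(a (Fin.last r) : ℤ)))) := by
  obtain ⟨e⟩ := nonempty_idealMod_hyp (G (Fin.last r)) hne
  haveI := isIso_pullToComap (LefPen.ciIdeal fun l : Fin r => G l.castSucc).subschemeι
    (LefPen.hypIdeal (G (Fin.last r))) (exists_equation hreg)
  exact ⟨(asIso (pullToComap _ _)).symm ≪≫ (Scheme.Modules.pullback _).mapIso e⟩

end GrothLib.CI20
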